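import Mathlib.RingTheory.Adjoin.Basic
import Mathlib.Algebra.BigOperators.Ring.Finset
import Mathlib.Data.ZMod.Basic
import Mathlib.LinearAlgebra.Span.Basic
import Mathlib.Algebra.Algebra.ZMod
import Mathlib.Tactic.LinearCombination

set_option autoImplicit false

/-!
# Monomial spanning sets, algebras over the field with two elements
-/

universe u v

namespace GrothLib.QsPn21

section Span

variable {k : Type*} [CommRing k] {Q : Type u} [CommRing Q] [Algebra k Q]
  {ι : Type v} [Fintype ι] [DecidableEq ι]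

/-- If every generator satisfies a monic relation with coefficients in the earlier ones, the bounded
monomials span. -/
theorem span_monomials_eq_top (G : ι → Q) (d rk : ι → ℕ) (hd : ∀ i, 0 < d i)
    (hgen : Algebra.adjoin k (Set.range G) = ⊤)
    (h : ∀ i, G i ^ d i ∈ Submodule.span k
      {z : Q | ∃ u ∈ Algebra.adjoin k (G '' {j | rk j < rk i}), ∃ r < d i, z = u * G i ^ r}) :
    Submodule.span k {z : Q | ∃ a : ι → ℕ, (∀ i, a i < d i) ∧ z = ∏ i, G i ^ a i} = ⊤ := by
  set W := Submodule.span k {z : Q | ∃ a : ι → ℕ, (∀ i, a i < d i) ∧ z = ∏ i, G i ^ a i} with hW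
  let S : Subalgebra k Q :=
    { carrier := {u | ∀ w ∈ W, u * w ∈ W}
      mul_mem' := fun {a b} ha hb w hw => by rw [mul_assoc]; exact ha _ (hb _ hw)
      add_mem' := fun {a b} ha hb w hw => by rw [add_mul]; exact W.add_mem (ha _ hw) (hb _ hw)
      algebraMap_mem' := fun c w hw => by rw [← Algebra.smul_def]; exact W.smul_mem c hw }
  have hmem : ∀ a : ι → ℕ, (∀ i, a i < d i) → ∏ i, G i ^ a i ∈ W := fun a ha =>
    Submodule.subset_span ⟨a, ha, rfl⟩
  have hupd : ∀ (a : ι → ℕ) (i : ι) (v : ℕ),
      ∏ j, G j ^ Function.update a i v j = G i ^ v * ∏ j ∈ Finset.univ.erase i, G j ^ a j := fun a i v => by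
    rw [← Finset.mul_prod_erase Finset.univ _ (Finset.mem_univ i), Function.update_self]
    exact congrArg _ (Finset.prod_congr rfl fun j hj => by rw [Function.update_of_ne (Finset.ne_of_mem_erase hj)])
  have hupd' : ∀ (a : ι → ℕ) (i : ι) (v : ℕ), (∀ j, a j < d j) → v < d i → ∀ j, Function.update a i v j < d j := by
    intro a i v ha hv j
    rcases eq_or_ne j i with rfl | hj
    · rwa [Function.update_self]
    · rw [Function.update_of_ne hj]; exact ha j
  have hG : ∀ (N : ℕ) (i : ι), rk i = N → G i ∈ S := by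
    intro N
    induction N using Nat.strong_induction_on with
    | _ N ih =>
      intro i hi w hw
      have hlow : Algebra.adjoin k (G '' {j | rk j < rk i}) ≤ S := Algebra.adjoin_le (by
        rintro _ ⟨j, hj, rfl⟩
        exact ih (rk j) (hi ▸ hj) j rfl)
      induction hw using Submodule.span_induction with
      | mem z hz =>
        obtain ⟨a, ha, rfl⟩ := hz
        have hz : G i * ∏ j, G j ^ a j = G i ^ (a i + 1) * ∏ j ∈ Finset.univ.erase i, G j ^ a j := by
          rw [← Finset.mul_prod_erase Finset.univ _ (Finset.mem_univ i), ← mul_assoc, ← pow_succ']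
        rw [hz]
        by_cases hlt : a i + 1 < d i
        · rw [← hupd]
          exact hmem _ (hupd' a i _ ha hlt)
        · rw [show a i + 1 = d i by have := ha i; omega]
          have key : ∀ y ∈ Submodule.span k
              {z : Q | ∃ u ∈ Algebra.adjoin k (G '' {j | rk j < rk i}), ∃ r < d i, z = u * G i ^ r},
              y * ∏ j ∈ Finset.univ.erase i, G j ^ a j ∈ W := by
            intro y hy
            induction hy using Submodule.span_induction with
            | mem z hz =>
              obtain ⟨u, hu, r, hr, rfl⟩ := hz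
              rw [mul_assoc, ← hupd]
              exact hlow hu _ (hmem _ (hupd' a i r ha hr))
            | zero => simp
            | add x y _ _ hx hy => rw [add_mul]; exact W.add_mem hx hy
            | smul c x _ hx => rw [smul_mul_assoc]; exact W.smul_mem c hx
          exact key _ (h i)
      | zero => simp
      | add x y _ _ hx hy => rw [mul_add]; exact W.add_mem hx hy
      | smul c x _ hx => rw [mul_smul_comm]; exact W.smul_mem c hx
  rw [eq_top_iff]
  intro q _
  have hq : q ∈ S := (hgen.ge.trans (Algebra.adjoin_le (by rintro _ ⟨i, rfl⟩; exact hG _ i rfl))) Algebra.mem_top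
  have h1 : (1 : Q) ∈ W := by
    have := hmem (fun _ => 0) hd
    simpa using this
  simpa using hq 1 h1

end Span

section Char2

variable {Q : Type u} [CommRing Q] [Algebra (ZMod 2) Q]

theorem two_eq_zero : (2 : Q) = 0 := by
  rw [← map_ofNat (algebraMap (ZMod 2) Q) 2, show (2 : ZMod 2) = 0 from by decide, map_zero]

theorem add_self (x : Q) : x + x = 0 := by rw [← two_mul, two_eq_zero, zero_mul]

theorem add_pow_two_pow (x y : Q) (k : ℕ) : (x + y) ^ 2 ^ k = x ^ 2 ^ k + y ^ 2 ^ k := by
  induction k with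
  | zero => simp
  | succ k ih =>
    rw [pow_succ, pow_mul, ih, add_sq, two_eq_zero, zero_mul, zero_mul, add_zero, ← pow_mul, ← pow_mul]

theorem sum_sq {ι : Type v} (s : Finset ι) (f : ι → Q) : (∑ i ∈ s, f i) ^ 2 = ∑ i ∈ s, f i ^ 2 := by
  classical
  induction s using Finset.induction_on with
  | empty => simp
  | insert a t ha ih =>
    rw [Finset.sum_insert ha, Finset.sum_insert ha, add_sq, ih, two_eq_zero, zero_mul, zero_mul, add_zero]

/-- The telescoping sum. -/
theorem tele (E ε : Q) (k : ℕ) :
    ∑ t ∈ Finset.range k, E ^ (2 ^ k - 2 ^ (t + 1)) * (ε ^ 2 + E * ε) ^ 2 ^ t =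
      ε ^ 2 ^ k + E ^ (2 ^ k - 1) * ε := by
  induction k with
  | zero => simp [add_self]
  | succ k ih =>
    rw [Finset.sum_range_succ]
    have h1 : ∑ t ∈ Finset.range k, E ^ (2 ^ (k + 1) - 2 ^ (t + 1)) * (ε ^ 2 + E * ε) ^ 2 ^ t =
        E ^ 2 ^ k * ∑ t ∈ Finset.range k, E ^ (2 ^ k - 2 ^ (t + 1)) * (ε ^ 2 + E * ε) ^ 2 ^ t := by
      rw [Finset.mul_sum]
      refine Finset.sum_congr rfl fun t ht => ?_
      rw [← mul_assoc, ← pow_add]
      congr 2
      have : 2 ^ (t + 1) ≤ 2 ^ k := Nat.pow_le_pow_right (by omega) (Finset.mem_range.1 ht)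
      rw [pow_succ]; omega
    have h2 : E ^ (2 ^ (k + 1) - 1) = E ^ 2 ^ k * E ^ (2 ^ k - 1) := by
      rw [← pow_add]; congr 1
      have := Nat.one_le_two_pow (n := k)
      rw [pow_succ]; omega
    rw [h1, ih, Nat.sub_self, pow_zero, one_mul, add_pow_two_pow, mul_pow, ← pow_mul, ← pow_succ', h2]
    linear_combination (E ^ 2 ^ k * ε ^ 2 ^ k) * (two_eq_zero (Q := Q))

end Char2

end GrothLib.QsPn21
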