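import Groth.Agent.Lib.QsPn21.Alg
import Groth.Prelude.Def_W4c4chowquasisplitPn
import Mathlib.RingTheory.MvPolynomial.Ideal
import Mathlib.Algebra.MvPolynomial.Eval
import Mathlib.LinearAlgebra.Dimension.Constructions
import Mathlib.LinearAlgebra.FiniteDimensional.Basic
import Mathlib.LinearAlgebra.Finsupp.Pi
import Mathlib.LinearAlgebra.Isomorphisms
import Mathlib.LinearAlgebra.Dimension.OrzechProperty

set_option autoImplicit false

/-!
# An adapted basis of the truncated algebra
-/

open MvPolynomial QsChow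

namespace GrothLib.QsPn21

/-- The exponent of the first truncation. -/
abbrev bigN (n : ℕ) : ℕ := 2 ^ klog n 2

variable {n : ℕ}

theorem klog_two : klog n 2 = Nat.log 2 (2 * n - 1) := by simp [klog]

theorem bigN_le (hn : 2 ≤ n) : bigN n ≤ 2 * n - 1 := by
  rw [bigN, klog_two]; exact Nat.pow_log_le_self 2 (by omega)

theorem le_bigN (hn : 2 ≤ n) : n ≤ bigN n := by
  rw [bigN, klog_two]
  have := Nat.lt_pow_succ_log_self (b := 2) (by omega) (2 * n - 1)
  rw [Nat.succ_eq_add_one, pow_succ] at this
  omega

theorem one_le_klog_two (hn : 2 ≤ n) : 1 ≤ klog n 2 := by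
  rw [klog_two]; exact Nat.log_pos (by omega) (by omega)

theorem le_mul_klog (hn : 2 ≤ n) {j : ℕ} (hj : 2 ≤ j) :
    n ≤ (2 * j - 3) * 2 ^ klog n j := by
  have h := Nat.lt_pow_succ_log_self (b := 2) (by omega) ((2 * n - 1) / (2 * j - 3))
  rw [Nat.succ_eq_add_one, Nat.div_lt_iff_lt_mul (by omega), pow_succ] at h
  rw [klog, mul_comm]
  have h' : 2 ^ Nat.log 2 ((2 * n - 1) / (2 * j - 3)) * 2 * (2 * j - 3) =
      2 * (2 ^ Nat.log 2 ((2 * n - 1) / (2 * j - 3)) * (2 * j - 3)) := by ring
  omega

theorem two_le_numVars (hn : 2 ≤ n) : 2 ≤ numVars n := by unfold numVars; omega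

theorem eps_succ (i : Fin (numVars n)) : eps n (i.val + 1) = Ideal.Quotient.mk (truncIdeal n) (X i) := by
  rw [eps, dif_pos ⟨by omega, by have := i.2; omega⟩]
  rfl

theorem eps_pow_bound (i : Fin (numVars n)) : eps n (i.val + 1) ^ bound n i = 0 := by
  rw [eps_succ, ← map_pow]
  exact Ideal.Quotient.eq_zero_iff_mem.2 (Ideal.subset_span ⟨i, rfl⟩)

theorem eps_one_pow (hn : 2 ≤ n) {m : ℕ} (hm : n ≤ m) : eps n 1 ^ m = 0 := by
  refine pow_eq_zero_of_le hm ?_
  simpa [bound] using eps_pow_bound (n := n) ⟨0, by have := two_le_numVars hn; omega⟩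

theorem eps_two_pow (hn : 2 ≤ n) : eps n 2 ^ bigN n = 0 := by
  simpa [bound, bigN] using eps_pow_bound (n := n) ⟨1, by have := two_le_numVars hn; omega⟩

theorem eps_pow_two_pow_klog {j : ℕ} (hj : 2 ≤ j) (hjs : j ≤ numVars n) : eps n j ^ 2 ^ klog n j = 0 := by
  have := eps_pow_bound (n := n) ⟨j - 1, by omega⟩
  simpa [bound, show j - 1 + 1 = j by omega, show ¬ (j ≤ 1) by omega, show j - 1 ≠ 0 by omega] using this

/-- The second invariant generator. -/
noncomputable abbrev e2 (n : ℕ) : P n := eps n 2 ^ 2 + eps n 1 * eps n 2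

/-- Exponent bounds for the invariant generators in positions at least three. -/
def rd (n : ℕ) (i : Fin (numVars n)) : ℕ := if i.val < 2 then 1 else 2 ^ klog n (i.val + 1)

/-- Exponents of the invariant generators in positions at least three. -/
abbrev Rest (n : ℕ) : Type := ∀ i : Fin (numVars n), Fin (rd n i)

/-- The index set of the adapted basis. -/
abbrev Idx (n : ℕ) : Type := Fin n × Fin (bigN n) × Rest n

/-- Products of invariant generators. -/
noncomputable def fp (a : Fin (numVars n) → ℕ) : P n := ∏ i, genImage n (some i) ^ a i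

/-- Members of the adapted basis, with unrestricted exponents. -/
noncomputable def elt (i r : ℕ) (a : Fin (numVars n) → ℕ) : P n :=
  eps n 1 ^ i * e2 n ^ (r / 2) * eps n 2 ^ (r % 2) * fp a

/-- Members of the adapted basis. -/
noncomputable def T (b : Idx n) : P n := elt b.1 b.2.1 (fun i => b.2.2 i)

/-- Exponent vectors below the bounds. -/
abbrev Box (n : ℕ) : Type := ∀ i : Fin (numVars n), Fin (bound n i)

/-- Coefficient restriction to the box. -/
noncomputable def coeffMap (n : ℕ) : FreeP n →ₗ[ZMod 2] (Box n → ZMod 2) where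
  toFun p a := coeff (Finsupp.equivFunOnFinite.symm fun i => (a i : ℕ)) p
  map_add' p q := funext fun a => coeff_add _ p q
  map_smul' c p := funext fun a => coeff_smul _ c p

theorem coeffMap_ker : LinearMap.ker (coeffMap n) = (truncIdeal n).restrictScalars (ZMod 2) := by
  have htr : truncIdeal n =
      Ideal.span ((fun s => monomial s (1 : ZMod 2)) '' Set.range fun i => Finsupp.single i (bound n i)) := by
    rw [truncIdeal, ← Set.range_comp]
    congr 1
    exact congrArg Set.range (funext fun i => by simp [X_pow_eq_monomial])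
  ext p
  rw [LinearMap.mem_ker, Submodule.restrictScalars_mem, htr, mem_ideal_span_monomial_image]
  constructor
  · intro h m hm
    by_contra hne
    push Not at hne
    have hlt : ∀ i, m i < bound n i := fun i => by
      by_contra hle
      refine hne _ ⟨i, rfl⟩ ?_
      rw [Finsupp.single_le_iff]
      omega
    have := congrFun h fun i => ⟨m i, hlt i⟩
    rw [mem_support_iff] at hm
    exact hm (by simpa [coeffMap, Finsupp.equivFunOnFinite_symm_coe] using this)
  · intro h
    funext a
    by_contra hne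
    obtain ⟨_, ⟨i, rfl⟩, hle⟩ := h (Finsupp.equivFunOnFinite.symm fun i => (a i : ℕ)) (mem_support_iff.2 hne)
    rw [Finsupp.single_le_iff] at hle
    have := (a i).2
    simp at hle
    omega

theorem coeffMap_surjective : Function.Surjective (coeffMap n) := fun g => by
  classical
  refine ⟨∑ a : Box n, monomial (Finsupp.equivFunOnFinite.symm fun i => (a i : ℕ)) (g a), funext fun b => ?_⟩
  show coeff _ (∑ a : Box n, _) = g b
  rw [coeff_sum, Finset.sum_eq_single b]
  · simp
  · intro a _ hab
    rw [coeff_monomial, if_neg]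
    intro h
    exact hab (funext fun i => Fin.ext (congrFun (Finsupp.equivFunOnFinite.symm.injective h) i))
  · simp

/-- The monomial description of the truncated algebra. -/
noncomputable def boxEquiv (n : ℕ) : P n ≃ₗ[ZMod 2] (Box n → ZMod 2) :=
  (Submodule.quotEquivOfEq _ _ (coeffMap_ker (n := n)).symm ≪≫ₗ
    LinearMap.quotKerEquivOfSurjective (coeffMap n) coeffMap_surjective :
    (FreeP n ⧸ (truncIdeal n).restrictScalars (ZMod 2)) ≃ₗ[ZMod 2] (Box n → ZMod 2))

theorem finrank_P (hn : 2 ≤ n) : Module.finrank (ZMod 2) (P n) = Fintype.card (Idx n) := by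
  rw [(boxEquiv n).finrank_eq, Module.finrank_pi]
  simp only [Idx, Box, Rest, Fintype.card_prod, Fintype.card_pi, Fintype.card_fin]
  have h : ∀ i : Fin (numVars n), bound n i = ((if i = ⟨0, by have := two_le_numVars hn; omega⟩ then n else 1) *
      (if i = ⟨1, by have := two_le_numVars hn; omega⟩ then bigN n else 1)) * rd n i := fun i => by
    obtain ⟨i, hi⟩ := i
    rcases i with _ | _ | i
    · simp [bound, rd]
    · simp [bound, rd]
    · simp [bound, rd, Fin.ext_iff]
  simp only [h, Finset.prod_mul_distrib, Finset.prod_ite_eq', Finset.mem_univ, if_true, mul_assoc]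

theorem genImage_some_of_two_le {i : Fin (numVars n)} (hi : 2 ≤ i.val) :
    genImage n (some i) = eps n (i.val + 1) + eps n 1 ^ (2 * (i.val + 1) - 4) * eps n 2 := by
  simp [genImage, show i.val ≠ 0 by omega, show i.val ≠ 1 by omega]

theorem span_T_eq_top (hn : 2 ≤ n) : Submodule.span (ZMod 2) (Set.range (T (n := n))) = ⊤ := by
  classical
  set W := Submodule.span (ZMod 2) (Set.range (T (n := n))) with hW
  let G : Fin (numVars n) → P n := fun i => if i.val < 2 then eps n (i.val + 1) else genImage n (some i)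
  have h0 : (0 : ℕ) < numVars n := by have := two_le_numVars hn; omega
  have h1 : (1 : ℕ) < numVars n := by have := two_le_numVars hn; omega
  have hG0 : G ⟨0, h0⟩ = eps n 1 := by simp [G]
  have hG1 : G ⟨1, h1⟩ = eps n 2 := by simp [G]
  have hgen : Algebra.adjoin (ZMod 2) (Set.range G) = ⊤ := by
    refine eq_top_iff.2 fun y hy => ?_
    clear hy
    obtain ⟨p, rfl⟩ := Ideal.Quotient.mk_surjective y
    have hall : ∀ i : Fin (numVars n), Ideal.Quotient.mk (truncIdeal n) (X i) ∈
        Algebra.adjoin (ZMod 2) (Set.range G) := fun i => by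
      rw [← eps_succ]
      by_cases hi : i.val < 2
      · exact (show G i = eps n (i.val + 1) from if_pos hi) ▸ Algebra.subset_adjoin (Set.mem_range_self i)
      · have hf : G i ∈ Algebra.adjoin (ZMod 2) (Set.range G) := Algebra.subset_adjoin ⟨i, rfl⟩
        have he : eps n 1 ^ (2 * (i.val + 1) - 4) * eps n 2 ∈ Algebra.adjoin (ZMod 2) (Set.range G) :=
          mul_mem (pow_mem (hG0 ▸ Algebra.subset_adjoin (Set.mem_range_self _)) _)
            (hG1 ▸ Algebra.subset_adjoin (Set.mem_range_self _))
        have h2 := sub_mem hf he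
        simp only [G, if_neg hi, genImage_some_of_two_le (by omega : 2 ≤ i.val), add_sub_cancel_right] at h2
        exact h2
    induction p using MvPolynomial.induction_on with
    | C c =>
      rw [← MvPolynomial.algebraMap_eq, Ideal.Quotient.mk_algebraMap]
      exact Subalgebra.algebraMap_mem _ c
    | add p q hp hq => rw [map_add]; exact add_mem hp hq
    | mul_X p i hp => rw [map_mul]; exact mul_mem hp (hall i)
  have htop := span_monomials_eq_top G (bound n) (fun i => i.val)
    (fun i => by unfold bound; split <;> [omega; exact Nat.two_pow_pos _]) hgen (fun i => by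
      by_cases hi : i.val < 2
      · simp only [G, if_pos hi, eps_pow_bound]
        exact Submodule.zero_mem _
      refine Submodule.subset_span ⟨G i ^ bound n i, ?_, 0, ?_, by simp⟩
      · have hd : bound n i = 2 ^ klog n (i.val + 1) := by simp [bound, show i.val ≠ 0 by omega]
        simp only [G, if_neg hi, genImage_some_of_two_le (by omega : 2 ≤ i.val)]
        rw [hd, add_pow_two_pow, eps_pow_two_pow_klog (by omega) (by have := i.2; omega), zero_add, mul_pow, ← pow_mul]
        exact mul_mem
          (pow_mem (hG0 ▸ Algebra.subset_adjoin (Set.mem_image_of_mem G (show (⟨0, h0⟩ : Fin (numVars n)) ∈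
            {j : Fin (numVars n) | j.val < i.val} by show (0 : ℕ) < i.val; omega))) _)
          (pow_mem (hG1 ▸ Algebra.subset_adjoin (Set.mem_image_of_mem G (show (⟨1, h1⟩ : Fin (numVars n)) ∈
            {j : Fin (numVars n) | j.val < i.val} by show (1 : ℕ) < i.val; omega))) _)
      · unfold bound; split <;> [omega; exact Nat.two_pow_pos _])
  have hpw : ∀ r, r < bigN n → eps n 2 ^ r ∈ Submodule.span (ZMod 2)
      {z : P n | ∃ i q, q ≤ r ∧ z = eps n 1 ^ i * e2 n ^ (q / 2) * eps n 2 ^ (q % 2)} := by
    intro r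
    induction r with
    | zero => intro _; exact Submodule.subset_span ⟨0, 0, le_rfl, by simp⟩
    | succ r ih =>
      intro hr
      have hs : ∀ y ∈ Submodule.span (ZMod 2)
          {z : P n | ∃ i q, q ≤ r ∧ z = eps n 1 ^ i * e2 n ^ (q / 2) * eps n 2 ^ (q % 2)},
          y * eps n 2 ∈ Submodule.span (ZMod 2)
            {z : P n | ∃ i q, q ≤ r + 1 ∧ z = eps n 1 ^ i * e2 n ^ (q / 2) * eps n 2 ^ (q % 2)} := by
        intro y hy
        induction hy using Submodule.span_induction with
        | mem z hz =>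
          obtain ⟨i, q, hq, rfl⟩ := hz
          rcases Nat.mod_two_eq_zero_or_one q with h | h
          · exact Submodule.subset_span ⟨i, q + 1, by omega, by
              rw [h, show (q + 1) / 2 = q / 2 by omega, show (q + 1) % 2 = 1 by omega]; simp⟩
          · rw [h, pow_one, show eps n 1 ^ i * e2 n ^ (q / 2) * eps n 2 * eps n 2 =
                eps n 1 ^ i * e2 n ^ ((q + 1) / 2) + eps n 1 ^ (i + 1) * e2 n ^ (q / 2) * eps n 2 by
              rw [show (q + 1) / 2 = q / 2 + 1 by omega]
              simp only [e2]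
              linear_combination (-(eps n 1 ^ i * (eps n 2 ^ 2 + eps n 1 * eps n 2) ^ (q / 2) * eps n 1 * eps n 2)) *
                (two_eq_zero (Q := P n))]
            exact Submodule.add_mem _
              (Submodule.subset_span ⟨i, q + 1, by omega, by rw [show (q + 1) % 2 = 0 by omega]; simp⟩)
              (Submodule.subset_span ⟨i + 1, q, by omega, by rw [h, pow_one]⟩)
        | zero => simp
        | add x y _ _ hx hy => rw [add_mul]; exact Submodule.add_mem _ hx hy
        | smul c x _ hx => rw [smul_mul_assoc]; exact Submodule.smul_mem _ c hx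
      rw [pow_succ]
      exact hs _ (ih (by omega))
  rw [eq_top_iff, ← htop, Submodule.span_le]
  rintro _ ⟨a, ha, rfl⟩
  let a' : Rest n := fun i => if h : i.val < 2 then ⟨0, by simp [rd, h]⟩ else ⟨a i, by
    have := ha i
    simpa [rd, h, bound, show i.val ≠ 0 by omega] using this⟩
  have hprod : ∏ i, G i ^ a i = eps n 2 ^ a ⟨1, h1⟩ * (eps n 1 ^ a ⟨0, h0⟩ * fp fun i => (a' i : ℕ)) := by
    rw [show fp (fun i => (a' i : ℕ)) = ∏ i, genImage n (some i) ^ (a' i : ℕ) from rfl]
    have h : ∀ i : Fin (numVars n), G i ^ a i = ((if i = ⟨1, h1⟩ then eps n 2 ^ a ⟨1, h1⟩ else 1) *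
        (if i = ⟨0, h0⟩ then eps n 1 ^ a ⟨0, h0⟩ else 1)) * genImage n (some i) ^ (a' i : ℕ) := fun i => by
      obtain ⟨i, hi⟩ := i
      rcases i with _ | _ | i
      · simp [G, a']
      · simp [G, a']
      · simp [G, a', Fin.ext_iff]
    simp only [h, Finset.prod_mul_distrib, Finset.prod_ite_eq', Finset.mem_univ, if_true, mul_assoc]
  rw [hprod]
  have ha1 : a ⟨1, h1⟩ < bigN n := by simpa [bound, bigN] using ha ⟨1, h1⟩
  have key : ∀ y ∈ Submodule.span (ZMod 2)
      {z : P n | ∃ i q, q ≤ a ⟨1, h1⟩ ∧ z = eps n 1 ^ i * e2 n ^ (q / 2) * eps n 2 ^ (q % 2)},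
      y * (eps n 1 ^ a ⟨0, h0⟩ * fp fun i => (a' i : ℕ)) ∈ W := by
    intro y hy
    induction hy using Submodule.span_induction with
    | mem z hz =>
      obtain ⟨i, q, hq, rfl⟩ := hz
      have : eps n 1 ^ i * e2 n ^ (q / 2) * eps n 2 ^ (q % 2) * (eps n 1 ^ a ⟨0, h0⟩ * fp fun i => (a' i : ℕ)) =
          elt (i + a ⟨0, h0⟩) q fun i => (a' i : ℕ) := by simp only [elt]; ring
      rw [this]
      by_cases hi : i + a ⟨0, h0⟩ < n
      · exact Submodule.subset_span ⟨(⟨_, hi⟩, ⟨q, by omega⟩, a'), rfl⟩
      · simp [elt, eps_one_pow hn (not_lt.1 hi)]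
    | zero => simp
    | add x y _ _ hx hy => rw [add_mul]; exact W.add_mem hx hy
    | smul c x _ hx => rw [smul_mul_assoc]; exact W.smul_mem c hx
  exact key _ (hpw _ ha1)

/-- The adapted basis. -/
noncomputable def basis (hn : 2 ≤ n) : Module.Basis (Idx n) (ZMod 2) (P n) :=
  haveI : Module.Finite (ZMod 2) (P n) := Module.Finite.equiv (boxEquiv n).symm
  basisOfTopLeSpanOfCardEqFinrank T (span_T_eq_top hn).ge (finrank_P hn).symm

theorem basis_apply (hn : 2 ≤ n) (b : Idx n) : basis hn b = T b := by
  simp [basis]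

end GrothLib.QsPn21
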