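import Groth.Agent.Lib.QsPn21.Basis
import Mathlib.RingTheory.Ideal.Quotient.Operations

set_option autoImplicit false

/-!
# The presentation of the invariant subalgebra
-/

open MvPolynomial QsChow

namespace GrothLib.QsPn21

variable {n : ℕ}

theorem evar_succ (i : Fin (numVars n)) : evar n (i.val + 1) = X (some i) := by
  rw [evar, dif_pos ⟨by omega, by have := i.2; omega⟩]
  rfl

theorem phi_X (g : Option (Fin (numVars n))) : phi n (X g) = genImage n g := by simp [phi]

theorem phi_evar_one (hn : 2 ≤ n) : phi n (evar n 1) = eps n 1 := by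
  have := evar_succ (n := n) ⟨0, by have := two_le_numVars hn; omega⟩
  simp only at this
  rw [this, phi_X]
  simp [genImage]

theorem phi_evar_two (hn : 2 ≤ n) : phi n (evar n 2) = e2 n := by
  have := evar_succ (n := n) ⟨1, two_le_numVars hn⟩
  simp only at this
  rw [this, phi_X]
  simp [genImage, e2]

theorem phi_xvar : phi n (xvar n) = eps n 1 ^ (n - 1) * eps n 2 := by rw [xvar, phi_X]; rfl

theorem phi_sPoly (hn : 2 ≤ n) (j : ℕ) :
    phi n (sPoly n j) = eps n 2 ^ 2 ^ klog n j + eps n 1 ^ (2 ^ klog n j - 1) * eps n 2 := by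
  simp only [sPoly, map_sum, map_mul, map_pow, phi_evar_one hn, phi_evar_two hn, tele]

theorem phi_hrel (hn : 2 ≤ n) (j : ℕ) : phi n (hrel n j) = 0 := by
  unfold hrel
  split_ifs with h2 h3
  · rw [map_add, map_mul, map_pow, phi_evar_one hn, phi_xvar, phi_sPoly hn,
      show eps n 2 ^ 2 ^ klog n 2 = 0 from eps_two_pow hn, zero_add, ← mul_assoc, ← pow_add,
      show 2 ^ klog n 2 - n + (n - 1) = 2 ^ klog n 2 - 1 by have := le_bigN hn; simp only [bigN] at this; omega, add_self]
  · obtain ⟨hj, hjs⟩ := h3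
    have he : evar n j = X (some ⟨j - 1, by omega⟩) := by
      have := evar_succ (n := n) ⟨j - 1, by omega⟩
      rwa [show j - 1 + 1 = j by omega] at this
    have hf : phi n (evar n j) = eps n j + eps n 1 ^ (2 * j - 4) * eps n 2 := by
      rw [he, phi_X, genImage_some_of_two_le (show 2 ≤ (⟨j - 1, by omega⟩ : Fin (numVars n)).val by simp; omega)]
      simp only [show j - 1 + 1 = j by omega]
    have hd := le_mul_klog hn (show 2 ≤ j by omega)
    have hsplit : (2 * j - 3) * 2 ^ klog n j = (2 * j - 4) * 2 ^ klog n j + 2 ^ klog n j := by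
      rw [← Nat.succ_mul]; congr 1; omega
    have hp := Nat.one_le_two_pow (n := klog n j)
    rw [map_add, map_add, map_mul, map_mul, map_pow, map_pow, map_pow, hf, phi_evar_one hn, phi_xvar, phi_sPoly hn,
      add_pow_two_pow, eps_pow_two_pow_klog (by omega) hjs, mul_pow, ← pow_mul, mul_add, zero_add, ← mul_assoc,
      ← mul_assoc, ← pow_add, ← pow_add,
      show (2 * j - 3) * 2 ^ klog n j - n + (n - 1) = (2 * j - 4) * 2 ^ klog n j + (2 ^ klog n j - 1) by omega]
    linear_combination (eps n 1 ^ ((2 * j - 4) * 2 ^ klog n j) * eps n 2 ^ 2 ^ klog n j +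
      eps n 1 ^ ((2 * j - 4) * 2 ^ klog n j + (2 ^ klog n j - 1)) * eps n 2) * (two_eq_zero (Q := P n))
  · simp

theorem presIdeal_le (hn : 2 ≤ n) : presIdeal n ≤ RingHom.ker (phi n) := by
  rw [presIdeal, Ideal.span_le]
  rintro z (hz | ⟨i, rfl⟩)
  · simp only [Set.mem_insert_iff, Set.mem_singleton_iff] at hz
    rcases hz with rfl | rfl | rfl
    · show phi n _ = 0
      rw [map_pow, phi_evar_one hn, eps_one_pow hn le_rfl]
    · show phi n _ = 0
      rw [map_mul, phi_evar_one hn, phi_xvar, ← mul_assoc, ← pow_succ', eps_one_pow hn (by omega), zero_mul]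
    · show phi n _ = 0
      rw [map_pow, phi_xvar, mul_pow, ← pow_mul, eps_one_pow hn (by omega), zero_mul]
  · exact phi_hrel hn _

/-- Exponent bounds in the presentation. -/
def dQ (n : ℕ) : Option (Fin (numVars n)) → ℕ
  | none => 2
  | some i => if i.val = 0 then n else if i.val = 1 then bigN n / 2 else 2 ^ klog n (i.val + 1)

/-- The order in which the generators are treated. -/
def rkQ : Option (Fin (numVars n)) → ℕ
  | none => 0
  | some i => i.val + 1

theorem two_mul_half (hn : 2 ≤ n) : 2 * (bigN n / 2) = bigN n :=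
  Nat.mul_div_cancel' (dvd_pow_self 2 (by have := one_le_klog_two hn; omega))

theorem half_bigN (hn : 2 ≤ n) : bigN n / 2 = 2 ^ (klog n 2 - 1) := by
  have : bigN n = 2 * 2 ^ (klog n 2 - 1) := by
    rw [← pow_succ', bigN]; congr 1; have := one_le_klog_two hn; omega
  omega

theorem dQ_pos (hn : 2 ≤ n) : ∀ g, 0 < dQ n g
  | none => by simp [dQ]
  | some i => by
    unfold dQ; simp only
    split_ifs
    · omega
    · rw [half_bigN hn]; exact Nat.two_pow_pos _
    · exact Nat.two_pow_pos _

theorem span_quot_eq_top (hn : 2 ≤ n) :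
    Submodule.span (ZMod 2) {z : FreeE n ⧸ presIdeal n | ∃ a : Option (Fin (numVars n)) → ℕ,
      (∀ g, a g < dQ n g) ∧ z = ∏ g, Ideal.Quotient.mk (presIdeal n) (X g) ^ a g} = ⊤ := by
  have h0 : (0 : ℕ) < numVars n := by have := two_le_numVars hn; omega
  have h1 : (1 : ℕ) < numVars n := two_le_numVars hn
  have hE1 : evar n 1 = X (some ⟨0, h0⟩) := by simpa using evar_succ (n := n) ⟨0, h0⟩
  have hE2 : evar n 2 = X (some ⟨1, h1⟩) := by simpa using evar_succ (n := n) ⟨1, h1⟩
  set π := Ideal.Quotient.mk (presIdeal n) with hπ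
  have hrel0 : ∀ z ∈ ({evar n 1 ^ n, evar n 1 * xvar n, xvar n ^ 2} ∪
      Set.range fun i : Fin (numVars n) => hrel n (i.val + 1) : Set (FreeE n)), π z = 0 := fun z hz =>
    Ideal.Quotient.eq_zero_iff_mem.2 (Ideal.subset_span hz)
  refine span_monomials_eq_top (fun g => π (X g)) (dQ n) rkQ (dQ_pos hn) ?_ fun g => ?_
  · refine eq_top_iff.2 fun y hy => ?_
    clear hy
    obtain ⟨p, rfl⟩ := Ideal.Quotient.mk_surjective y
    induction p using MvPolynomial.induction_on with
    | C c =>
      rw [← MvPolynomial.algebraMap_eq, Ideal.Quotient.mk_algebraMap]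
      exact Subalgebra.algebraMap_mem _ c
    | add p q hp hq => rw [map_add]; exact add_mem hp hq
    | mul_X p i hp => rw [map_mul]; exact mul_mem hp (Algebra.subset_adjoin ⟨i, rfl⟩)
  have hlow : ∀ j : Option (Fin (numVars n)), rkQ j < rkQ g →
      π (X j) ∈ Algebra.adjoin (ZMod 2) ((fun g => π (X g)) '' {j | rkQ j < rkQ g}) := fun j hj =>
    Algebra.subset_adjoin ⟨j, hj, rfl⟩
  match g with
  | none =>
    have : π (X none) ^ dQ n none = 0 := by
      rw [← map_pow]; exact hrel0 _ (Or.inl (by simp [dQ, xvar]))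
    simp only [this]
    exact Submodule.zero_mem _
  | some ⟨i, hi⟩ =>
    rcases i with _ | _ | i
    · have : π (X (some ⟨0, hi⟩)) ^ dQ n (some ⟨0, hi⟩) = 0 := by
        rw [← map_pow]; exact hrel0 _ (Or.inl (by simp [dQ, hE1]))
      simp only [this]
      exact Submodule.zero_mem _
    · have hK := one_le_klog_two hn
      obtain ⟨K, hK'⟩ : ∃ K, klog n 2 = K + 1 := ⟨klog n 2 - 1, by omega⟩
      have hd : dQ n (some ⟨1, hi⟩) = 2 ^ K := by simp [dQ, half_bigN hn, hK']
      have hz : π (hrel n 2) = 0 := hrel0 _ (Or.inr ⟨⟨1, hi⟩, rfl⟩)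
      rw [hrel, if_pos rfl, sPoly, hK', Finset.sum_range_succ, Nat.sub_self, pow_zero, one_mul, map_add, map_add,
        map_pow π (evar n 2)] at hz
      rw [hd, show π (X (some ⟨1, hi⟩)) ^ 2 ^ K = π (evar n 1 ^ (2 ^ (K + 1) - n) * xvar n) +
          π (∑ t ∈ Finset.range K, evar n 1 ^ (2 ^ (K + 1) - 2 ^ (t + 1)) * evar n 2 ^ 2 ^ t) by
        rw [← hE2]
        linear_combination hz - (π (evar n 1 ^ (2 ^ (K + 1) - n) * xvar n) +
          π (∑ t ∈ Finset.range K, evar n 1 ^ (2 ^ (K + 1) - 2 ^ (t + 1)) * evar n 2 ^ 2 ^ t)) *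
            (two_eq_zero (Q := FreeE n ⧸ presIdeal n))]
      refine Submodule.add_mem _ (Submodule.subset_span
        ⟨π (evar n 1 ^ (2 ^ (K + 1) - n) * xvar n), ?_, 0, Nat.two_pow_pos K, by rw [pow_zero, mul_one]⟩) ?_
      · rw [map_mul, map_pow, hE1, xvar]
        exact mul_mem (pow_mem (hlow _ (by simp [rkQ])) _) (hlow _ (by simp [rkQ]))
      · rw [map_sum]
        refine Submodule.sum_mem _ fun t ht => Submodule.subset_span
          ⟨π (evar n 1 ^ (2 ^ (K + 1) - 2 ^ (t + 1))), ?_, 2 ^ t,
            Nat.pow_lt_pow_right (by omega) (Finset.mem_range.1 ht), ?_⟩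
        · rw [map_pow, hE1]
          exact pow_mem (hlow _ (by simp [rkQ])) _
        · rw [map_mul, map_pow π (evar n 2), hE2]
    · have hd : dQ n (some ⟨i + 2, hi⟩) = 2 ^ klog n (i + 3) := by simp [dQ]
      have hz : π (hrel n (i + 3)) = 0 := hrel0 _ (Or.inr ⟨⟨i + 2, hi⟩, rfl⟩)
      have hev : evar n (i + 3) = X (some ⟨i + 2, hi⟩) := evar_succ (n := n) ⟨i + 2, hi⟩
      rw [hrel, if_neg (by omega), if_pos ⟨by omega, by omega⟩, map_add, map_add, map_pow π (evar n (i + 3)), hev] at hz
      refine Submodule.subset_span ⟨_, ?_, 0, dQ_pos hn _, (mul_one _).symm.trans (by rw [pow_zero])⟩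
      rw [hd, show π (X (some ⟨i + 2, hi⟩)) ^ 2 ^ klog n (i + 3) =
          π (evar n 1 ^ ((2 * (i + 3) - 3) * 2 ^ klog n (i + 3) - n) * xvar n) +
          π (evar n 1 ^ ((2 * (i + 3) - 4) * 2 ^ klog n (i + 3)) * sPoly n (i + 3)) by
        linear_combination hz - (π (evar n 1 ^ ((2 * (i + 3) - 3) * 2 ^ klog n (i + 3) - n) * xvar n) +
          π (evar n 1 ^ ((2 * (i + 3) - 4) * 2 ^ klog n (i + 3)) * sPoly n (i + 3))) *
            (two_eq_zero (Q := FreeE n ⧸ presIdeal n))]
      refine add_mem ?_ ?_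
      · rw [map_mul, map_pow, hE1, xvar]
        exact mul_mem (pow_mem (hlow _ (by simp [rkQ])) _) (hlow _ (by simp [rkQ]))
      · rw [map_mul, map_pow, hE1, sPoly, map_sum]
        refine mul_mem (pow_mem (hlow _ (by simp [rkQ])) _) (sum_mem fun t _ => ?_)
        rw [map_mul, map_pow, map_pow, hE1, hE2]
        exact mul_mem (pow_mem (hlow _ (by simp [rkQ])) _) (pow_mem (hlow _ (by simp [rkQ])) _)

/-- Exponent vectors of the normal monomials. -/
abbrev GI (n : ℕ) (i0 : Fin (numVars n)) : Type :=
  {a : ∀ g : Option (Fin (numVars n)), Fin (dQ n g) // (a none).val = 0 ∨ (a (some i0)).val = 0}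

theorem ker_phi (hn : 2 ≤ n) : RingHom.ker (phi n) = presIdeal n := by
  classical
  refine le_antisymm (fun y hy => ?_) (presIdeal_le hn)
  have h0 : (0 : ℕ) < numVars n := by have := two_le_numVars hn; omega
  have h1 : (1 : ℕ) < numVars n := two_le_numVars hn
  let i0 : Fin (numVars n) := ⟨0, h0⟩
  let i1 : Fin (numVars n) := ⟨1, h1⟩
  let m : GI n i0 → FreeE n := fun a => ∏ g, X g ^ (a.1 g).val
  let π := Ideal.Quotient.mkₐ (ZMod 2) (presIdeal n)
  have hE1 : evar n 1 = X (some i0) := by simpa [i0] using evar_succ (n := n) i0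
  have hspan : π y ∈ Submodule.span (ZMod 2) (Set.range (π ∘ m)) := by
    refine (?_ : (⊤ : Submodule (ZMod 2) _) ≤ _) Submodule.mem_top
    rw [← span_quot_eq_top hn, Submodule.span_le]
    rintro _ ⟨a, ha, rfl⟩
    by_cases h : a none = 0 ∨ a (some i0) = 0
    · exact Submodule.subset_span ⟨⟨fun g => ⟨a g, ha g⟩, h⟩, by
        simp [m, π, Ideal.Quotient.mkₐ_eq_mk, map_prod, map_pow]⟩
    · push Not at h
      have hnone : a none = 1 := by have := ha none; simp [dQ] at this; omega
      have hz : Ideal.Quotient.mk (presIdeal n) (X (some i0)) * Ideal.Quotient.mk (presIdeal n) (X none) = 0 := by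
        rw [← map_mul, ← hE1]
        exact Ideal.Quotient.eq_zero_iff_mem.2 (Ideal.subset_span (Or.inl (by simp [xvar])))
      obtain ⟨q, hq⟩ : ∃ q, a (some i0) = q + 1 := ⟨a (some i0) - 1, by omega⟩
      rw [← Finset.mul_prod_erase Finset.univ _ (Finset.mem_univ none),
        ← Finset.mul_prod_erase (Finset.univ.erase none) _ (a := some i0) (by simp), hnone, hq, pow_one, pow_succ]
      have : Ideal.Quotient.mk (presIdeal n) (X none) * (Ideal.Quotient.mk (presIdeal n) (X (some i0)) ^ q *
          Ideal.Quotient.mk (presIdeal n) (X (some i0))) = 0 := by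
        linear_combination (Ideal.Quotient.mk (presIdeal n) (X (some i0)) ^ q) * hz
      rw [← mul_assoc (Ideal.Quotient.mk (presIdeal n) (X none)), this, zero_mul]
      exact Submodule.zero_mem _
  obtain ⟨c, hc⟩ := (Submodule.mem_span_range_iff_exists_fun (ZMod 2)).1 hspan
  have hmem : y - ∑ a, c a • m a ∈ presIdeal n := by
    rw [← Ideal.Quotient.eq_zero_iff_mem, map_sub, sub_eq_zero]
    refine hc.symm.trans ?_
    show _ = π (∑ a, c a • m a)
    simp only [map_sum, map_smul, Function.comp_apply]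
  let ι : GI n i0 → Idx n := fun a =>
    (⟨if (a.1 none).val = 0 then (a.1 (some i0)).val else n - 1, by
        have := (a.1 (some i0)).2
        have h : dQ n (some i0) = n := by simp [dQ, i0]
        split <;> omega⟩,
      ⟨2 * (a.1 (some i1)).val + (a.1 none).val, by
        have h := (a.1 (some i1)).2
        have h' := (a.1 none).2
        have := two_mul_half hn
        have hd : dQ n (some i1) = bigN n / 2 := by simp [dQ, i1]
        have hd' : dQ n none = 2 := rfl
        omega⟩,
      fun i => if h : i.val < 2 then ⟨0, by simp [rd, h]⟩ else ⟨(a.1 (some i)).val, by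
        have := (a.1 (some i)).2
        simpa [rd, h, dQ, show i.val ≠ 0 by omega, show i.val ≠ 1 by omega] using this⟩)
  have hι : Function.Injective ι := fun a b hab => by
    simp only [ι, Prod.mk.injEq, Fin.ext_iff, funext_iff] at hab
    obtain ⟨h1', h2', h3'⟩ := hab
    have hn0 : (a.1 none).val = (b.1 none).val := by
      have := (a.1 none).2; have := (b.1 none).2; have : dQ n none = 2 := rfl; omega
    refine Subtype.ext (funext fun g => Fin.ext ?_)
    match g with
    | none => exact hn0
    | some ⟨i, hi⟩ =>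
      rcases i with _ | _ | i
      · rw [hn0] at h1'
        split_ifs at h1' with h
        · exact h1'
        · rw [show (⟨0, hi⟩ : Fin (numVars n)) = i0 from rfl, a.2.resolve_left (hn0 ▸ h), b.2.resolve_left h]
      · show (a.1 (some i1)).val = (b.1 (some i1)).val
        omega
      · simpa using h3' ⟨i + 2, hi⟩
  have hm : ∀ a, phi n (m a) = T (ι a) := fun a => by
    have hp : ∀ i : Fin (numVars n), phi n (X (some i)) ^ (a.1 (some i)).val =
        ((if i = i0 then eps n 1 ^ (a.1 (some i0)).val else 1) * (if i = i1 then e2 n ^ (a.1 (some i1)).val else 1)) *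
          genImage n (some i) ^ ((ι a).2.2 i).val := fun i => by
      obtain ⟨i, hi⟩ := i
      rcases i with _ | _ | i
      · simp [ι, i0, i1, phi_X, genImage]
      · simp [ι, i0, i1, phi_X, genImage, e2]
      · simp [ι, i0, i1, phi_X, Fin.ext_iff]
    simp only [m, map_mul, map_prod, map_pow, Fintype.prod_option, hp, Finset.prod_mul_distrib, Finset.prod_ite_eq',
      Finset.mem_univ, if_true, phi_X none]
    rw [show genImage n none = eps n 1 ^ (n - 1) * eps n 2 from rfl]
    simp only [T, elt, fp, ι]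
    rcases (show (a.1 none).val = 0 ∨ (a.1 none).val = 1 by
      have := (a.1 none).2; have : dQ n none = 2 := rfl; omega) with h | h
    · simp only [h, pow_zero, one_mul, if_true, add_zero, Nat.mul_div_cancel_left _ two_pos, Nat.mul_mod_right]
      ring
    · have h00 : (a.1 (some i0)).val = 0 := a.2.resolve_left (by omega)
      simp only [h, h00, pow_zero, one_mul, pow_one, show ¬ ((1 : ℕ) = 0) by omega, if_false,
        show (2 * (a.1 (some i1)).val + 1) / 2 = (a.1 (some i1)).val by omega,
        show (2 * (a.1 (some i1)).val + 1) % 2 = 1 by omega]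
      ring
  have hzero : ∑ a, c a • T (ι a) = 0 := by
    have h := presIdeal_le hn hmem
    rw [RingHom.mem_ker, map_sub, RingHom.mem_ker.1 hy, zero_sub, neg_eq_zero, map_sum] at h
    simpa only [map_smul, hm] using h
  have hli : LinearIndependent (ZMod 2) (fun a => T (ι a)) := by
    have := (basis hn).linearIndependent.comp ι hι
    simpa [Function.comp_def, basis_apply] using this
  have hc0 := Fintype.linearIndependent_iff.1 hli c hzero
  simpa [hc0] using hmem

end GrothLib.QsPn21
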