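import Groth.Agent.Lib.QsPn21.Fixed
import Groth.Agent.Lib.QsPn21.Pres
import Groth.Prelude.Def_W4c4chowquasisplitPn2
import Mathlib.RingTheory.Ideal.Span

set_option autoImplicit false

/-!
# Reduction modulo a power of the first invariant
-/

open MvPolynomial QsChow

namespace GrothLib.QsPn21

variable {n : ℕ} {τ : P n →ₐ[ZMod 2] P n}

/-- The relations together with a power of the first variable. -/
noncomputable def J (n c : ℕ) : Ideal (FreeE n) := presIdeal n ⊔ Ideal.span {evar n 1 ^ c}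

theorem IsTau.mem_J_iff (h : IsTau τ) (c : ℕ) (q : FreeE n) :
    (∃ w, τ w = w ∧ phi n q = eps n 1 ^ c * w) ↔ q ∈ J n c := by
  constructor
  · rintro ⟨w, hw, hq⟩
    obtain ⟨q', rfl⟩ : w ∈ (phi n).range := by rw [h.range_phi]; exact hw
    have hk : q - evar n 1 ^ c * q' ∈ presIdeal n := by
      rw [← ker_phi h.two_le, RingHom.mem_ker, map_sub, map_mul, map_pow, phi_evar_one h.two_le, hq]
      exact sub_self _
    have h2 : evar n 1 ^ c * q' ∈ Ideal.span {evar n 1 ^ c} :=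
      Ideal.mul_mem_right _ _ (Ideal.subset_span rfl)
    have := Submodule.add_mem_sup hk h2
    rwa [sub_add_cancel] at this
  · intro hq
    obtain ⟨r, hr, s, hs, rfl⟩ := Submodule.mem_sup.1 hq
    obtain ⟨t, rfl⟩ := Ideal.mem_span_singleton.1 hs
    refine ⟨phi n t, ?_, ?_⟩
    · exact (show phi n t ∈ AlgHom.equalizer τ (AlgHom.id (ZMod 2) (P n)) by rw [← h.range_phi]; exact ⟨t, rfl⟩)
    · rw [map_add, RingHom.mem_ker.1 ((ker_phi h.two_le).ge hr), zero_add, map_mul, map_pow, phi_evar_one h.two_le]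

/-- The inclusion of the polynomials without `x`. -/
noncomputable def incl (n : ℕ) : FreeP n →ₐ[ZMod 2] FreeE n := MvPolynomial.rename some

/-- Substituting `v` for `x`. -/
noncomputable def subst (n : ℕ) (v : FreeP n) : FreeE n →ₐ[ZMod 2] FreeP n :=
  MvPolynomial.aeval fun g => g.elim v X

theorem phi_incl (q : FreeP n) : phi n (incl n q) = psi n q := by
  rw [← AlgHom.comp_apply]
  congr 1
  exact MvPolynomial.algHom_ext fun i => by simp [incl, phi, psi]

theorem subst_incl (v q : FreeP n) : subst n v (incl n q) = q := by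
  rw [← AlgHom.comp_apply]
  nth_rw 2 [← AlgHom.id_apply (R := ZMod 2) q]
  congr 1
  exact MvPolynomial.algHom_ext fun i => by simp [incl, subst]

theorem subst_evar (v : FreeP n) (j : ℕ) : subst n v (evar n j) = evarE n j := by
  unfold evar evarE
  split <;> simp [subst]

theorem incl_evarE (j : ℕ) : incl n (evarE n j) = evar n j := by
  unfold evar evarE
  split <;> simp [incl]

theorem subst_xvar (v : FreeP n) : subst n v (xvar n) = v := by simp [xvar, subst]

theorem sub_incl_subst_mem (v : FreeP n) {I : Ideal (FreeE n)} (hv : xvar n - incl n v ∈ I) (p : FreeE n) :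
    p - incl n (subst n v p) ∈ I := by
  rw [← Ideal.Quotient.mk_eq_mk_iff_sub_mem]
  show Ideal.Quotient.mkₐ (ZMod 2) I p = ((Ideal.Quotient.mkₐ (ZMod 2) I).comp ((incl n).comp (subst n v))) p
  congr 1
  refine MvPolynomial.algHom_ext fun g => ?_
  rcases g with _ | i
  · simp only [AlgHom.comp_apply, subst, aeval_X, Option.elim, Ideal.Quotient.mkₐ_eq_mk]
    exact (Ideal.Quotient.mk_eq_mk_iff_sub_mem _ _).2 hv
  · simp [subst, incl]

/-- Transfer of the presentation to the polynomials without `x`. -/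
theorem IsTau.psi_mem_iff (h : IsTau τ) (c : ℕ) (v : FreeP n) (I : Ideal (FreeP n)) (hv : xvar n - incl n v ∈ J n c)
    (h1 : J n c ≤ I.comap (subst n v)) (h2 : I ≤ (J n c).comap (incl n)) (q : FreeP n) :
    (∃ w, τ w = w ∧ psi n q = eps n 1 ^ c * w) ↔ q ∈ I := by
  rw [← phi_incl, h.mem_J_iff]
  refine ⟨fun hq => ?_, fun hq => h2 hq⟩
  have := h1 hq
  rwa [Ideal.mem_comap, subst_incl] at this

theorem IsTau.exists_psi_add (h : IsTau τ) (c : ℕ) (v : FreeP n) (hv : xvar n - incl n v ∈ J n c) {z : P n}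
    (hz : τ z = z) : ∃ q : FreeP n, ∃ w, τ w = w ∧ z = psi n q + eps n 1 ^ c * w := by
  obtain ⟨p, rfl⟩ : z ∈ (phi n).range := by rw [h.range_phi]; exact hz
  obtain ⟨w, hw, hpw⟩ := (h.mem_J_iff c _).2 (sub_incl_subst_mem v hv p)
  refine ⟨subst n v p, w, hw, ?_⟩
  rw [← hpw, map_sub, phi_incl]
  exact (add_sub_cancel _ _).symm

theorem J_le {c : ℕ} {I : Ideal (FreeE n)} (h1 : evar n 1 ^ n ∈ I) (h2 : evar n 1 * xvar n ∈ I)
    (h3 : xvar n ^ 2 ∈ I) (hc : evar n 1 ^ c ∈ I) (hh : ∀ j, 2 ≤ j → j ≤ numVars n → hrel n j ∈ I) : J n c ≤ I := by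
  refine sup_le (Ideal.span_le.2 ?_) (Ideal.span_le.2 (by simpa using hc))
  rintro z (hz | ⟨i, rfl⟩)
  · simp only [Set.mem_insert_iff, Set.mem_singleton_iff] at hz
    rcases hz with rfl | rfl | rfl <;> assumption
  · by_cases hi : i.val = 0
    · show hrel n (i.val + 1) ∈ I
      rw [hi, hrel, if_neg (by omega), if_neg (by omega)]
      exact I.zero_mem
    · exact hh _ (by omega) (by have := i.2; omega)

theorem hrel_mem_J (c : ℕ) {j : ℕ} (hj : 1 ≤ j) (hjs : j ≤ numVars n) : hrel n j ∈ J n c :=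
  Ideal.mem_sup_left (Ideal.subset_span (Or.inr ⟨⟨j - 1, by omega⟩,
    show hrel n (j - 1 + 1) = hrel n j by rw [show j - 1 + 1 = j by omega]⟩))

theorem evar_pow_mem_J {c m : ℕ} (h : c ≤ m) : evar n 1 ^ m ∈ J n c :=
  Ideal.mem_sup_right (Ideal.mem_span_singleton.2 (pow_dvd_pow _ h))

theorem evar_mul_xvar_mem_J (c : ℕ) {m : ℕ} (hm : 1 ≤ m) : evar n 1 ^ m * xvar n ∈ J n c := by
  refine Ideal.mem_sup_left ?_
  obtain ⟨r, rfl⟩ : ∃ r, m = r + 1 := ⟨m - 1, by omega⟩
  rw [pow_succ, mul_assoc]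
  exact Ideal.mul_mem_left _ _ (Ideal.subset_span (Or.inl (by simp)))

theorem xvar_sq_mem_J (c : ℕ) : xvar n ^ 2 ∈ J n c :=
  Ideal.mem_sup_left (Ideal.subset_span (Or.inl (by simp)))

/-- The last term of `S_2`. -/
theorem sPoly_two {K : ℕ} (hK : klog n 2 = K + 1) :
    sPoly n 2 = (∑ t ∈ Finset.range K, evar n 1 ^ (2 ^ (K + 1) - 2 ^ (t + 1)) * evar n 2 ^ 2 ^ t) + evar n 2 ^ 2 ^ K := by
  rw [sPoly, hK, Finset.sum_range_succ, Nat.sub_self, pow_zero, one_mul]

theorem sum_low_mem {K c : ℕ} (hc : c ≤ 2 ^ K) {I : Ideal (FreeE n)} (hI : ∀ m, c ≤ m → evar n 1 ^ m ∈ I) :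
    (∑ t ∈ Finset.range K, evar n 1 ^ (2 ^ (K + 1) - 2 ^ (t + 1)) * evar n 2 ^ 2 ^ t) ∈ I := by
  refine Submodule.sum_mem _ fun t ht => Ideal.mul_mem_right _ _ (hI _ ?_)
  have : 2 ^ (t + 1) ≤ 2 ^ K := Nat.pow_le_pow_right (by omega) (Finset.mem_range.1 ht)
  rw [pow_succ 2 K]; omega

/-! ### Arithmetic of the exponents -/

theorem odd_two_pow_unique {m o s t : ℕ} (hm : Odd m) (ho : Odd o) (h : m * 2 ^ t = o * 2 ^ s) : t = s ∧ m = o := by
  have hm' : padicValNat 2 m = 0 := padicValNat.eq_zero_of_not_dvd (fun hd => by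
    obtain ⟨r, rfl⟩ := hm; omega)
  have ho' : padicValNat 2 o = 0 := padicValNat.eq_zero_of_not_dvd (fun hd => by
    obtain ⟨r, rfl⟩ := ho; omega)
  have h1 := congrArg (padicValNat 2) h
  rw [padicValNat.mul (by obtain ⟨r, rfl⟩ := hm; omega) (pow_ne_zero _ two_ne_zero),
    padicValNat.mul (by obtain ⟨r, rfl⟩ := ho; omega) (pow_ne_zero _ two_ne_zero), hm', ho',
    padicValNat.prime_pow, padicValNat.prime_pow, zero_add, zero_add] at h1
  subst h1
  exact ⟨rfl, Nat.eq_of_mul_eq_mul_right (Nat.two_pow_pos _) h⟩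

theorem kprime_eq_klog (hn : 2 ≤ n) {j : ℕ} (hj : 3 ≤ j) (hjs : j ≤ numVars n)
    (h : ∀ t, (2 * j - 3) * 2 ^ t ≠ 2 * n) : kprime n j = klog n j := by
  rw [kprime, if_neg (by omega), if_neg (by omega), klog]
  have hle : 2 * j - 3 ≤ 2 * n - 1 := by unfold numVars at hjs; omega
  refine le_antisymm ?_ (Nat.log_mono_right (Nat.div_le_div_right (by omega)))
  refine Nat.le_log_of_pow_le (by omega) ((Nat.le_div_iff_mul_le (by omega)).2 ?_)
  have h1 := Nat.pow_log_le_self 2 (x := 2 * n / (2 * j - 3))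
    (by have := Nat.div_pos (show 2 * j - 3 ≤ 2 * n by omega) (show 0 < 2 * j - 3 by omega); omega)
  have h2 := Nat.mul_le_mul_right (2 * j - 3) h1
  have h3 := Nat.div_mul_le_self (2 * n) (2 * j - 3)
  have h4 := h (Nat.log 2 (2 * n / (2 * j - 3)))
  rw [mul_comm] at h4
  omega

theorem kprime_two (hn : 2 ≤ n) (hne : n ≠ 2 ^ klog n 2) :
    klog n 2 = kprime n 2 + 1 ∧ n < 2 ^ klog n 2 := by
  have h1 := le_bigN hn
  have h2 := bigN_le hn
  simp only [bigN] at h1 h2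
  have hlt : n < 2 ^ klog n 2 := lt_of_le_of_ne h1 hne
  refine ⟨?_, hlt⟩
  obtain ⟨K, hK⟩ : ∃ K, klog n 2 = K + 1 := ⟨klog n 2 - 1, by have := one_le_klog_two hn; omega⟩
  rw [hK, pow_succ] at hlt h2
  rw [hK, kprime, if_neg (by omega), if_pos rfl, Nat.log_eq_of_pow_le_of_lt_pow (by omega : 2 ^ K ≤ n) (by rw [pow_succ]; omega)]

end GrothLib.QsPn21
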