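import Groth.Agent.Lib.QsPn21.Basis

set_option autoImplicit false

/-!
# The involution and its invariants
-/

open MvPolynomial QsChow

namespace GrothLib.QsPn21

variable {n : ℕ} (τ : P n →ₐ[ZMod 2] P n)

/-- The hypothesis on the involution. -/
structure IsTau : Prop where
  two_le : 2 ≤ n
  one : τ (eps n 1) = eps n 1
  ge : ∀ j : ℕ, 2 ≤ j → j ≤ numVars n → τ (eps n j) = eps n j + eps n 1 ^ (2 * j - 3)

/-- `1 + τ`. -/
noncomputable def D : P n →ₗ[ZMod 2] P n := LinearMap.id + τ.toLinearMap

theorem D_apply (y : P n) : D τ y = y + τ y := rfl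

theorem fixed_iff (y : P n) : τ y = y ↔ D τ y = 0 := by
  rw [D_apply]
  constructor
  · intro h; rw [h, add_self]
  · intro h
    linear_combination h - y * (two_eq_zero (Q := P n))

variable {τ}

theorem IsTau.eps_two (h : IsTau τ) : τ (eps n 2) = eps n 2 + eps n 1 := by
  rw [h.ge 2 le_rfl (two_le_numVars h.two_le)]; norm_num

theorem IsTau.e2_fixed (h : IsTau τ) : τ (e2 n) = e2 n := by
  simp only [e2, map_add, map_pow, map_mul, h.eps_two, h.one]
  linear_combination (eps n 1 * eps n 2 + eps n 1 ^ 2) * (two_eq_zero (Q := P n))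

theorem IsTau.genImage_fixed (h : IsTau τ) : ∀ g : Option (Fin (numVars n)), τ (genImage n g) = genImage n g
  | none => by
    show τ (eps n 1 ^ (n - 1) * eps n 2) = eps n 1 ^ (n - 1) * eps n 2
    rw [map_mul, map_pow, h.one, h.eps_two, mul_add, ← pow_succ,
      eps_one_pow h.two_le (show n ≤ n - 1 + 1 by omega), add_zero]
  | some i => by
    unfold genImage
    simp only
    split_ifs with h0 h1
    · exact h.one
    · exact h.e2_fixed
    · rw [map_add, map_mul, map_pow, h.one, h.eps_two, h.ge (i.val + 1) (by omega) (by have := i.2; omega),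
        show 2 * (i.val + 1) - 3 = 2 * (i.val + 1) - 4 + 1 by omega]
      linear_combination (eps n 1 ^ (2 * (i.val + 1) - 4) * eps n 1) * (two_eq_zero (Q := P n))

theorem IsTau.fp_fixed (h : IsTau τ) (a : Fin (numVars n) → ℕ) : τ (fp a) = fp a := by
  simp only [fp, map_prod, map_pow, h.genImage_fixed]

theorem IsTau.D_elt_even (h : IsTau τ) (i : ℕ) {r : ℕ} (hr : r % 2 = 0) (a : Fin (numVars n) → ℕ) :
    D τ (elt i r a) = 0 := by
  rw [← fixed_iff]
  simp only [elt, hr, pow_zero, mul_one, map_mul, map_pow, h.one, h.e2_fixed, h.fp_fixed]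

theorem IsTau.D_elt_odd (h : IsTau τ) (i : ℕ) {r : ℕ} (hr : r % 2 = 1) (a : Fin (numVars n) → ℕ) :
    D τ (elt i r a) = elt (i + 1) (r - 1) a := by
  rw [D_apply]
  simp only [elt, hr, pow_one, map_mul, map_pow, h.one, h.e2_fixed, h.fp_fixed, h.eps_two,
    show (r - 1) % 2 = 0 by omega, show (r - 1) / 2 = r / 2 by omega, pow_zero, mul_one, pow_succ, map_one]
  linear_combination (eps n 1 ^ i * (eps n 2 ^ 2 + eps n 1 * eps n 2) ^ (r / 2) * eps n 2 * fp a) *
    (two_eq_zero (Q := P n))

theorem IsTau.D_T_top (h : IsTau τ) (b : Idx n) (hb : n ≤ b.1.val + 1) : D τ (T b) = 0 := by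
  rcases Nat.mod_two_eq_zero_or_one b.2.1.val with hr | hr
  · exact h.D_elt_even _ hr _
  · rw [T, h.D_elt_odd _ hr, elt, eps_one_pow h.two_le hb]
    simp

/-- Indices of invariant basis elements. -/
def Good (b : Idx n) : Prop := b.2.1.val % 2 = 0 ∨ n ≤ b.1.val + 1

theorem IsTau.D_T_good (h : IsTau τ) {b : Idx n} (hb : Good b) : D τ (T b) = 0 :=
  hb.elim (fun hr => h.D_elt_even _ hr _) (h.D_T_top b)

/-- The index hit by `1 + τ`. -/
def next (b : Idx n) (hb : ¬ Good b) : Idx n :=
  (⟨b.1.val + 1, not_le.1 fun hh => hb (Or.inr hh)⟩, ⟨b.2.1.val - 1, by have := b.2.1.2; omega⟩, b.2.2)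

theorem IsTau.D_T_bad (h : IsTau τ) {b : Idx n} (hb : ¬ Good b) : D τ (T b) = T (next b hb) :=
  h.D_elt_odd _ ((Nat.mod_two_eq_zero_or_one _).resolve_left fun hr => hb (Or.inl hr)) _

theorem next_injective {b c : Idx n} (hb : ¬ Good b) (hc : ¬ Good c) (h : next b hb = next c hc) : b = c := by
  obtain ⟨i, r, a⟩ := b
  obtain ⟨j, s, a'⟩ := c
  simp only [Good, not_or] at hb hc
  simp only [next, Prod.mk.injEq, Fin.ext_iff] at h
  obtain ⟨h1, h2, rfl⟩ := h
  simp only [Prod.mk.injEq, Fin.ext_iff, and_true]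
  omega

theorem IsTau.coord_next (h : IsTau τ) {b : Idx n} (hb : ¬ Good b) (y : P n) :
    (basis h.two_le).repr (D τ y) (next b hb) = (basis h.two_le).repr y b := by
  classical
  suffices hl : ((basis h.two_le).coord (next b hb)).comp (D τ) = (basis h.two_le).coord b from LinearMap.congr_fun hl y
  refine (basis h.two_le).ext fun c => ?_
  rw [LinearMap.comp_apply, Module.Basis.coord_apply, Module.Basis.coord_apply, Module.Basis.repr_self, basis_apply]
  by_cases hc : Good c
  · rw [h.D_T_good hc, map_zero, Finsupp.single_eq_of_ne (fun e => hb (by subst e; exact hc))]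
    rfl
  · rw [h.D_T_bad hc, ← basis_apply h.two_le, Module.Basis.repr_self, Finsupp.single_apply, Finsupp.single_apply]
    exact if_congr ⟨next_injective hc hb, fun e => by subst e; rfl⟩ rfl rfl

theorem IsTau.coord_D_odd (h : IsTau τ) {b : Idx n} (hb : b.2.1.val % 2 = 1) (y : P n) :
    (basis h.two_le).repr (D τ y) b = 0 := by
  classical
  suffices hl : ((basis h.two_le).coord b).comp (D τ) = 0 from LinearMap.congr_fun hl y
  refine (basis h.two_le).ext fun c => ?_
  rw [LinearMap.comp_apply, Module.Basis.coord_apply, basis_apply, LinearMap.zero_apply]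
  by_cases hc : Good c
  · rw [h.D_T_good hc, map_zero]; rfl
  · rw [h.D_T_bad hc, ← basis_apply h.two_le, Module.Basis.repr_self, Finsupp.single_eq_of_ne]
    intro e
    have h2 : b.2.1.val = c.2.1.val - 1 := congrArg (fun z => z.2.1.val) e
    simp only [Good, not_or] at hc
    omega

/-- Invariants are spanned by the good basis elements. -/
theorem IsTau.mem_span_good (h : IsTau τ) {y : P n} (hy : τ y = y) :
    y ∈ Submodule.span (ZMod 2) (T '' {b : Idx n | Good b}) := by
  rw [← (basis h.two_le).sum_repr y]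
  refine Submodule.sum_mem _ fun b _ => ?_
  by_cases hb : Good b
  · rw [basis_apply]
    exact Submodule.smul_mem _ _ (Submodule.subset_span ⟨b, hb, rfl⟩)
  · rw [← h.coord_next hb y, (fixed_iff τ y).1 hy, map_zero]
    simp

theorem IsTau.coord_ideal (h : IsTau τ) {m : ℕ} {w : P n} (hw : w ∈ Ideal.span ({eps n 1 ^ m} : Set (P n)))
    {b : Idx n} (hb : b.1.val < m) : (basis h.two_le).repr w b = 0 := by
  classical
  obtain ⟨v, rfl⟩ := Ideal.mem_span_singleton.1 hw
  suffices hl : ((basis h.two_le).coord b).comp (LinearMap.mulLeft (ZMod 2) (eps n 1 ^ m)) = 0 from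
    LinearMap.congr_fun hl v
  refine (basis h.two_le).ext fun c => ?_
  rw [LinearMap.comp_apply, Module.Basis.coord_apply, basis_apply, LinearMap.zero_apply, LinearMap.mulLeft_apply]
  have he : eps n 1 ^ m * T c = elt (m + c.1.val) c.2.1.val fun i => c.2.2 i := by
    simp only [T, elt, pow_add]; ring
  rw [he]
  by_cases hi : m + c.1.val < n
  · rw [show elt (m + c.1.val) c.2.1.val (fun i => (c.2.2 i : ℕ)) = T (⟨_, hi⟩, c.2) from rfl,
      ← basis_apply h.two_le, Module.Basis.repr_self, Finsupp.single_eq_of_ne]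
    intro e
    have : b.1.val = m + c.1.val := congrArg (fun z => z.1.val) e
    omega
  · simp [elt, eps_one_pow h.two_le (not_lt.1 hi)]

theorem IsTau.range_D (h : IsTau τ) :
    LinearMap.range (D τ) = (LinearMap.ker (D τ)).map (LinearMap.mulLeft (ZMod 2) (eps n 1)) := by
  refine le_antisymm ?_ ?_
  · rintro _ ⟨y, rfl⟩
    rw [← (basis h.two_le).sum_repr y, map_sum]
    refine Submodule.sum_mem _ fun b _ => ?_
    rw [map_smul, basis_apply]
    refine Submodule.smul_mem _ _ ?_
    by_cases hb : Good b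
    · rw [h.D_T_good hb]; exact Submodule.zero_mem _
    · have hr : b.2.1.val % 2 = 1 :=
        (Nat.mod_two_eq_zero_or_one _).resolve_left fun hr => hb (Or.inl hr)
      refine ⟨elt b.1.val (b.2.1.val - 1) fun i => b.2.2 i, h.D_elt_even _ (by omega) _, ?_⟩
      rw [LinearMap.mulLeft_apply, T, h.D_elt_odd _ hr]
      simp only [elt, pow_succ]; ring
  · rintro _ ⟨z, hz, rfl⟩
    have hz' : τ z = z := (fixed_iff τ z).2 hz
    have key : Submodule.span (ZMod 2) (T '' {b : Idx n | Good b}) ≤
        (LinearMap.range (D τ)).comap (LinearMap.mulLeft (ZMod 2) (eps n 1)) := by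
      rw [Submodule.span_le]
      rintro _ ⟨b, hb, rfl⟩
      rcases hb with hr | hi
      · refine ⟨elt b.1.val (b.2.1.val + 1) fun i => b.2.2 i, ?_⟩
        rw [h.D_elt_odd _ (by omega), LinearMap.mulLeft_apply, T, Nat.add_sub_cancel]
        simp only [elt, pow_succ]; ring
      · refine ⟨0, ?_⟩
        rw [map_zero, LinearMap.mulLeft_apply, T, elt, ← mul_assoc, ← mul_assoc, ← mul_assoc, ← pow_succ',
          eps_one_pow h.two_le hi]
        simp
    exact key (h.mem_span_good hz')

theorem IsTau.exists_fixed_mul (h : IsTau τ) {m : ℕ} {y : P n}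
    (hy : D τ y ∈ Ideal.span ({eps n 1 ^ m} : Set (P n))) : ∃ z, τ z = z ∧ D τ y = eps n 1 ^ m * z := by
  refine ⟨∑ b, (basis h.two_le).repr (D τ y) b • elt (b.1.val - m) b.2.1.val (fun i => b.2.2 i), ?_, ?_⟩
  · rw [fixed_iff, map_sum]
    refine Finset.sum_eq_zero fun b _ => ?_
    rw [map_smul]
    rcases Nat.mod_two_eq_zero_or_one b.2.1.val with hr | hr
    · rw [h.D_elt_even _ hr]; exact smul_zero _
    · rw [h.coord_D_odd hr]; exact zero_smul _ _
  · conv_lhs => rw [← (basis h.two_le).sum_repr (D τ y)]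
    rw [Finset.mul_sum]
    refine Finset.sum_congr rfl fun b _ => ?_
    by_cases hb : b.1.val < m
    · rw [h.coord_ideal hy hb, zero_smul, zero_smul, mul_zero]
    · rw [basis_apply, mul_smul_comm]
      refine congrArg _ ?_
      simp only [T, elt, ← mul_assoc, ← pow_add, show m + (b.1.val - m) = b.1.val by omega]

theorem IsTau.range_phi (h : IsTau τ) : (phi n).range = AlgHom.equalizer τ (AlgHom.id (ZMod 2) (P n)) := by
  refine le_antisymm ?_ fun y hy => ?_
  · rintro _ ⟨q, rfl⟩
    show τ (phi n q) = phi n q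
    rw [← AlgHom.comp_apply]
    congr 1
    refine MvPolynomial.algHom_ext fun g => ?_
    simp only [AlgHom.comp_apply, phi, aeval_X, h.genImage_fixed]
  · have key : Submodule.span (ZMod 2) (T '' {b : Idx n | Good b}) ≤ Subalgebra.toSubmodule (phi n).range := by
      rw [Submodule.span_le]
      rintro _ ⟨b, hb, rfl⟩
      have hg : ∀ g, genImage n g ∈ (phi n).range := fun g => ⟨X g, by simp [phi]⟩
      have h1 : eps n 1 ∈ (phi n).range := by
        simpa [genImage] using hg (some ⟨0, by have := two_le_numVars h.two_le; omega⟩)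
      have h2 : e2 n ∈ (phi n).range := by
        simpa [genImage, e2] using hg (some ⟨1, by have := two_le_numVars h.two_le; omega⟩)
      have hf : fp (fun i => (b.2.2 i : ℕ)) ∈ (phi n).range := prod_mem fun i _ => pow_mem (hg _) _
      show T b ∈ (phi n).range
      rcases Nat.mod_two_eq_zero_or_one b.2.1.val with hr | hr
      · simp only [T, elt, hr, pow_zero, mul_one]
        exact mul_mem (mul_mem (pow_mem h1 _) (pow_mem h2 _)) hf
      · have hi : b.1.val = n - 1 := by
          rcases hb with hr' | hi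
          · omega
          · have := b.1.2; omega
        simp only [T, elt, hr, pow_one, hi]
        rw [mul_right_comm (eps n 1 ^ (n - 1))]
        exact mul_mem (mul_mem (hg none) (pow_mem h2 _)) hf
    exact key (h.mem_span_good hy)

end GrothLib.QsPn21
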